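import Groth.Agent.Unr55.Et.EtEquiv
import Groth.Prelude.Def_Frob

/-!
Lifts of Frobenius pass to etale schemes (topological invariance of the etale site).
-/

universe u

open CategoryTheory CategoryTheory.Limits AlgebraicGeometry

namespace Groth.Agent.H98FrobLift

set_option maxHeartbeats 400000
set_option backward.isDefEq.respectTransparency.types false

theorem exists_lift {p : ℕ} [Fact p.Prime] {X Y Xl : Scheme.{u}} [FrobSch.IsCharP X p]
    [FrobSch.IsCharP Y p] (q : Y ⟶ X) [Etale q] (i : X ⟶ Xl) [IsClosedImmersion i] [Surjective i]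
    (Fl : Xl ⟶ Xl) (hF : i ≫ Fl = FrobSch.frob X p ≫ i) :
    ∃ (Yl : Scheme.{u}) (ql : Yl ⟶ Xl) (j : Y ⟶ Yl) (Gl : Yl ⟶ Yl), Etale ql ∧
      IsPullback j q ql i ∧ Gl ≫ ql = ql ≫ Fl ∧ j ≫ Gl = FrobSch.frob Y p ≫ j := by
  have := Unr55.EtGlue.bc_isEquivalence_thickening i
  let U : X.Etale := Scheme.Etale.mk q
  let V : Xl.Etale := (EtCoh.bc i).objPreimage U
  let e : (EtCoh.bc i).obj V ≅ U := (EtCoh.bc i).objObjPreimageIso U
  let el : pullback V.hom i ≅ Y :=
    (Scheme.Etale.forget X ⋙ Over.forget X).mapIso e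
  have hel : el.hom ≫ q = pullback.snd V.hom i := MorphismProperty.Over.w e.hom
  let j : Y ⟶ V.left := el.inv ≫ pullback.fst V.hom i
  have hP : IsPullback j q V.hom i := by
    refine (IsPullback.of_hasPullback V.hom i).of_iso el (Iso.refl _) (Iso.refl _) (Iso.refl _)
      ?_ ?_ ?_ ?_
    · simp [j]
    · simp [hel]
    · simp
    · simp
  have : Etale V.hom := V.prop
  let W : Xl.Etale := Scheme.Etale.mk (pullback.snd V.hom Fl)
  have hc : (el.hom ≫ FrobSch.frob Y p ≫ j) ≫ V.hom = (pullback.fst V.hom i ≫ V.hom) ≫ Fl := by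
    simp only [Category.assoc]
    rw [hP.w, reassoc_of% (FrobSch.frob_comp (p := p) q), ← hF, reassoc_of% hel,
      pullback.condition_assoc]
  let ψl : pullback V.hom i ⟶ pullback (pullback.snd V.hom Fl) i :=
    pullback.lift (pullback.lift (el.hom ≫ FrobSch.frob Y p ≫ j) (pullback.fst V.hom i ≫ V.hom) hc)
      (pullback.snd V.hom i) (by rw [pullback.lift_snd, pullback.condition])
  let ψ : (EtCoh.bc i).obj V ⟶ (EtCoh.bc i).obj W :=
    MorphismProperty.Over.homMk ψl (pullback.lift_snd _ _ _)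
  let φ : V ⟶ W := (EtCoh.bc i).preimage ψ
  let φl : V.left ⟶ pullback V.hom Fl := φ.left
  have hw : φl ≫ pullback.snd V.hom Fl = V.hom := MorphismProperty.Over.w φ
  have hφ : pullback.fst V.hom i ≫ φl =
      pullback.lift (el.hom ≫ FrobSch.frob Y p ≫ j) (pullback.fst V.hom i ≫ V.hom) hc := by
    have h1 : ((EtCoh.bc i).map φ).left = ψl := by rw [(EtCoh.bc i).map_preimage]; rfl
    have h2 := congrArg (fun t => t ≫ pullback.fst (pullback.snd V.hom Fl) i) h1
    refine Eq.trans ?_ (Eq.trans h2 (pullback.lift_fst _ _ _))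
    exact (pullback.lift_fst _ _ _).symm
  refine ⟨V.left, V.hom, j, φl ≫ pullback.fst V.hom Fl, V.prop, hP, ?_, ?_⟩
  · rw [Category.assoc, pullback.condition, reassoc_of% hw]
  · simp only [j, Category.assoc]
    rw [reassoc_of% hφ, pullback.lift_fst]
    simp [j]

end Groth.Agent.H98FrobLift
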